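import Mathlib
import Cfsg.Prelude.Def_HallClasses
import Cfsg.Agent.Lib.Helper5.HallSn.H1

/-! Abstract lemmas on pronormal subgroups. -/

namespace Cfsg.Agent.Lib.Helper5.Pron

open Cfsg.Agent.Lib.Helper5.HallSn

variable {Γ : Type*} [Group Γ]

theorem mem_map_conj {H : Subgroup Γ} {g y : Γ} :
    y ∈ H.map (MulAut.conj g).toMonoidHom ↔ g⁻¹ * y * g ∈ H := by
  constructor
  · rintro ⟨h, hh, rfl⟩
    simpa [mul_assoc] using hh
  · intro h
    exact ⟨g⁻¹ * y * g, h, by simp [mul_assoc]⟩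

theorem map_conj_mul (H : Subgroup Γ) (a b : Γ) :
    H.map (MulAut.conj (a * b)).toMonoidHom =
      (H.map (MulAut.conj b).toMonoidHom).map (MulAut.conj a).toMonoidHom := by
  ext y
  simp only [mem_map_conj]
  simp [mul_assoc]

theorem map_conj_eq_of_mem_normalizer {H : Subgroup Γ} {x : Γ} (hx : x ∈ Subgroup.normalizer (H : Set Γ)) :
    H.map (MulAut.conj x).toMonoidHom = H := by
  ext y
  rw [mem_map_conj]
  exact ((Subgroup.mem_normalizer_iff''.mp hx) y).symm

theorem pronormal_of_normal (H : Subgroup Γ) [hn : H.Normal] : Cfsg.IsPronormal H := by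
  intro g
  refine ⟨1, Subgroup.one_mem _, ?_⟩
  have h1 : ∀ x : Γ, x ∈ Subgroup.normalizer (H : Set Γ) := by
    intro x
    rw [Subgroup.normalizer_eq_top_iff.mpr hn]
    exact Subgroup.mem_top x
  rw [map_conj_eq_of_mem_normalizer (h1 g), map_conj_eq_of_mem_normalizer (h1 1)]

theorem hallOf_of_sylow [Finite Γ] {p : ℕ} [hp : Fact p.Prime] {S K : Subgroup Γ} (hS : IsPGroup p S)
    (hSi : ¬ p ∣ S.index) (hSK : S ≤ K) : Cfsg.IsPiHallOf {p} S K := by
  refine ⟨hSK, fun q hq hd => ?_, fun q hq hqp hd => ?_⟩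
  · obtain ⟨k, hk⟩ := IsPGroup.iff_card.mp hS
    rw [hk] at hd
    exact (Nat.prime_dvd_prime_iff_eq hq hp.out).mp (hq.dvd_of_dvd_pow hd)
  · rw [Set.mem_singleton_iff] at hqp
    subst hqp
    apply hSi
    rw [← Subgroup.relIndex_mul_index hSK]
    exact Dvd.dvd.mul_right hd _

/-- a `p`-subgroup is conjugate into any Sylow `p`-subgroup -/
theorem exists_conj_le_of_sylow [Finite Γ] {p : ℕ} [hp : Fact p.Prime] {P E : Subgroup Γ}
    (hP : IsPGroup p P) (hPi : ¬ p ∣ P.index) (hE : IsPGroup p E) :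
    ∃ g : Γ, ∀ q ∈ E, g⁻¹ * q * g ∈ P := by
  obtain ⟨g, -, hg⟩ := hallOf_conj_pgroup (hallOf_of_sylow hP hPi le_top)
    (Set.mem_singleton p) hE le_top
  exact ⟨g, hg⟩

/-- If `H` contains a Sylow `p`-subgroup `S` of the finite group `Γ` whose normalizer
normalizes `H`, then `H` is pronormal. -/
theorem pronormal_of_sylow_normalizer_le [Finite Γ] {p : ℕ} [hp : Fact p.Prime]
    {S H : Subgroup Γ} (hS : IsPGroup p S) (hSi : ¬ p ∣ S.index) (hSH : S ≤ H)
    (hN : Subgroup.normalizer (S : Set Γ) ≤ Subgroup.normalizer (H : Set Γ)) :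
    Cfsg.IsPronormal H := by
  intro g
  set K := H ⊔ H.map (MulAut.conj g).toMonoidHom with hK
  have hSK : S ≤ K := hSH.trans le_sup_left
  have hhall : Cfsg.IsPiHallOf {p} S K := hallOf_of_sylow hS hSi hSK
  have hSg : IsPGroup p (S.map (MulAut.conj g).toMonoidHom) := hS.map _
  have hSgK : S.map (MulAut.conj g).toMonoidHom ≤ K :=
    (Subgroup.map_mono hSH).trans le_sup_right
  obtain ⟨k, hkK, hk⟩ := hallOf_conj_pgroup hhall (Set.mem_singleton p) hSg hSgK
  have hx : k⁻¹ * g ∈ Subgroup.normalizer (S : Set Γ) := by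
    apply Subgroup.mem_normalizer_fintype
    intro s hs
    have h1 : g * s * g⁻¹ ∈ S.map (MulAut.conj g).toMonoidHom := by
      rw [mem_map_conj]
      simpa [mul_assoc] using hs
    have h2 := hk _ h1
    simpa [mul_assoc] using h2
  refine ⟨k, hkK, ?_⟩
  have h3 : g = k * (k⁻¹ * g) := by simp
  conv_lhs => rw [h3, map_conj_mul, map_conj_eq_of_mem_normalizer (hN hx)]

theorem pronormal_of_sylow [Finite Γ] {p : ℕ} [hp : Fact p.Prime]
    {H : Subgroup Γ} (hS : IsPGroup p H) (hSi : ¬ p ∣ H.index) : Cfsg.IsPronormal H :=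
  pronormal_of_sylow_normalizer_le hS hSi le_rfl le_rfl

theorem pronormal_of_prime_index [Finite Γ] {H : Subgroup Γ} (hH : H.index.Prime) :
    Cfsg.IsPronormal H := by
  intro g
  set K := H ⊔ H.map (MulAut.conj g).toMonoidHom with hK
  have hHK : H ≤ K := le_sup_left
  have h1 : K.index ∣ H.index := Subgroup.index_dvd_of_le hHK
  rcases (Nat.dvd_prime hH).mp h1 with h2 | h2
  · refine ⟨g, ?_, rfl⟩
    rw [Subgroup.index_eq_one.mp h2]
    exact Subgroup.mem_top g
  · have h3 : K = H := by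
      have h4 := Subgroup.relIndex_mul_index hHK
      rw [h2] at h4
      have h5 : H.relIndex K = 1 := by
        have hpos : 0 < H.index := hH.pos
        exact Nat.eq_of_mul_eq_mul_right hpos (by rw [h4, one_mul])
      exact le_antisymm (Subgroup.relIndex_eq_one.mp h5) hHK
    have h4 : H.map (MulAut.conj g).toMonoidHom ≤ H :=
      (le_sup_right : H.map (MulAut.conj g).toMonoidHom ≤ K).trans h3.le
    refine ⟨1, Subgroup.one_mem _, ?_⟩
    have h5 : H.map (MulAut.conj (1 : Γ)).toMonoidHom = H := by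
      ext y
      rw [mem_map_conj]
      simp
    rw [h5]
    apply le_antisymm h4
    -- cardinalities
    intro y hy
    have hinj : Function.Injective (MulAut.conj g).toMonoidHom := (MulAut.conj g).injective
    have hc : Nat.card (H.map (MulAut.conj g).toMonoidHom) = Nat.card H :=
      Subgroup.card_map_of_injective hinj
    have : H.map (MulAut.conj g).toMonoidHom = H :=
      Subgroup.eq_of_le_of_card_ge h4 (le_of_eq hc.symm)
    rw [this]
    exact hy

end Cfsg.Agent.Lib.Helper5.Pron
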