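import Mathlib
import Cfsg.Agent.Lib.Helper5.HallSn.H9
import Cfsg.Agent.Lib.Helper5.Pron.R1

/-! The transpositions contained in a Sylow 2-subgroup of a symmetric group. -/

namespace Cfsg.Agent.Lib.Helper5.Pron

open Equiv Equiv.Perm MulAction
open scoped Pointwise
open Cfsg.Agent.Lib.Helper5.HallSn

universe u

variable {α : Type u} [DecidableEq α] [Fintype α]

/-- the 2-element sets `{a, b}` such that the transposition `swap a b` lies in `P` -/
def pairs (P : Subgroup (Perm α)) : Set (Set α) :=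
  {s | ∃ a b, a ≠ b ∧ swap a b ∈ P ∧ s = {a, b}}

theorem swap_eq_of_two_group {P : Subgroup (Perm α)} (hP : IsPGroup 2 P) {a b c : α}
    (hab : a ≠ b) (hac : a ≠ c) (h1 : swap a b ∈ P) (h2 : swap a c ∈ P) : b = c := by
  by_contra hbc
  have h3 : (swap a b * swap a c).IsThreeCycle := isThreeCycle_swap_mul_swap_same hab hac hbc
  have h4 : swap a b * swap a c ∈ P := P.mul_mem h1 h2
  obtain ⟨k, hk⟩ := hP ⟨_, h4⟩
  have h5 : (swap a b * swap a c) ^ (2 ^ k) = 1 := by
    have := congrArg Subtype.val hk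
    simpa using this
  have h6 := orderOf_dvd_of_pow_eq_one h5
  rw [h3.orderOf] at h6
  have := (Nat.Prime.dvd_of_dvd_pow Nat.prime_three h6)
  omega

theorem pairs_eq_of_mem {P : Subgroup (Perm α)} (hP : IsPGroup 2 P) {s t : Set α}
    (hs : s ∈ pairs P) (ht : t ∈ pairs P) {x : α} (hxs : x ∈ s) (hxt : x ∈ t) : s = t := by
  obtain ⟨a, b, hab, h1, rfl⟩ := hs
  obtain ⟨c, d, hcd, h2, rfl⟩ := ht
  have key : ∀ a b d : α, a ≠ b → a ≠ d → swap a b ∈ P → swap a d ∈ P →
      ({a, b} : Set α) = {a, d} := by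
    intro a b d hab had h1 h2
    rw [swap_eq_of_two_group hP hab had h1 h2]
  rcases hxs with rfl | rfl <;> rcases hxt with h | h
  · subst h
    exact key _ _ _ hab hcd h1 h2
  · subst h
    rw [Set.pair_comm c x]
    rw [swap_comm] at h2
    exact key _ _ _ hab hcd.symm h1 h2
  · subst h
    rw [Set.pair_comm a x]
    rw [swap_comm] at h1
    exact key _ _ _ hab.symm hcd h1 h2
  · subst h
    rw [Set.pair_comm a x, Set.pair_comm c x]
    rw [swap_comm] at h1 h2
    exact key _ _ _ hab.symm hcd.symm h1 h2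

theorem smul_pair' (g : Perm α) (a b : α) : g • ({a, b} : Set α) = {g a, g b} := by
  rw [Set.smul_set_insert, Set.smul_set_singleton]
  rfl

theorem smul_mem_pairs {P : Subgroup (Perm α)} {g : Perm α}
    (hg : g ∈ Subgroup.normalizer (P : Set (Perm α))) {s : Set α} (hs : s ∈ pairs P) :
    g • s ∈ pairs P := by
  obtain ⟨a, b, hab, h1, rfl⟩ := hs
  refine ⟨g a, g b, fun h => hab (g.injective h), ?_, smul_pair' g a b⟩
  rw [swap_apply_apply]
  exact (Subgroup.mem_normalizer_iff.mp hg _).mp h1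

theorem normalizer_le_stabilizer_pairs [Finite α] (P : Subgroup (Perm α)) :
    Subgroup.normalizer (P : Set (Perm α)) ≤ stabilizer (Perm α) (pairs P) := by
  intro g hg
  rw [mem_stabilizer_set_iff_smul_set_subset (Set.toFinite _)]
  rintro _ ⟨s, hs, rfl⟩
  exact smul_mem_pairs hg hs

theorem le_stabilizer_pairs [Finite α] (P : Subgroup (Perm α)) :
    P ≤ stabilizer (Perm α) (pairs P) :=
  Subgroup.le_normalizer.trans (normalizer_le_stabilizer_pairs P)

theorem mem_pairs_of_swap_mem {P : Subgroup (Perm α)} {a b : α} (hab : a ≠ b)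
    (h : swap a b ∈ P) : ({a, b} : Set α) ∈ pairs P := ⟨a, b, hab, h, rfl⟩

theorem swap_mem_of_mem_pairs {P : Subgroup (Perm α)} {a b : α} (hab : a ≠ b)
    (h : ({a, b} : Set α) ∈ pairs P) : swap a b ∈ P := by
  obtain ⟨c, d, hcd, h1, h2⟩ := h
  have ha : a ∈ ({c, d} : Set α) := h2 ▸ Set.mem_insert a {b}
  have hb : b ∈ ({c, d} : Set α) := h2 ▸ Set.mem_insert_of_mem a rfl
  rcases ha with rfl | ha <;> rcases hb with rfl | hb
  · exact absurd rfl hab
  · rw [Set.mem_singleton_iff] at hb; subst hb; exact h1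
  · rw [Set.mem_singleton_iff] at ha; subst ha; rw [swap_comm]; exact h1
  · rw [Set.mem_singleton_iff] at ha hb; subst ha; subst hb; exact absurd rfl hab

theorem ncard_of_mem_pairs {P : Subgroup (Perm α)} {s : Set α} (hs : s ∈ pairs P) :
    s.ncard = 2 := by
  obtain ⟨a, b, hab, -, rfl⟩ := hs
  exact Set.ncard_pair hab

section Fibre

theorem swap_mem_fibreStab {ι : Type*} (f : α → ι) {a b : α} (h : f a = f b) :
    swap a b ∈ fibreStab f := by
  intro x
  by_cases hxa : x = a
  · subst hxa; rw [swap_apply_left]; exact h.symm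
  · by_cases hxb : x = b
    · subst hxb; rw [swap_apply_right]; exact h
    · rw [swap_apply_of_ne_of_ne hxa hxb]

theorem sq_eq_one_of_mem_fibreStab {ι : Type*} (f : α → ι)
    (h2 : ∀ x y z, f x = f y → f y = f z → x = y ∨ y = z ∨ x = z) {g : Perm α}
    (hg : g ∈ fibreStab f) : g * g = 1 := by
  ext x
  simp only [Perm.mul_apply, Perm.one_apply]
  have h1 : f (g x) = f x := hg x
  have h3 : f (g (g x)) = f (g x) := hg (g x)
  rcases h2 (g (g x)) (g x) x h3 h1 with h | h | h
  · have := g.injective h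
    rw [this, this]
  · rw [h, h]
  · exact h

theorem isPGroup_two_of_sq {Γ : Type*} [Group Γ] {E : Subgroup Γ} (h : ∀ g ∈ E, g * g = 1) :
    IsPGroup 2 E := by
  rintro ⟨g, hg⟩
  refine ⟨1, ?_⟩
  apply Subtype.ext
  simp [pow_two, h g hg]

theorem exists_equiv_fibreStab_le {P : Subgroup (Perm α)} (hP : IsPGroup 2 P)
    (hPi : ¬ 2 ∣ P.index) :
    ∃ e : α ≃ Fin (Fintype.card α), fibreStab (fun x => (e x).val / 2) ≤ P := by
  let e₀ : α ≃ Fin (Fintype.card α) := Fintype.equivFin α
  have hE : IsPGroup 2 (fibreStab (fun x => (e₀ x).val / 2)) := by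
    apply isPGroup_two_of_sq
    intro g hg
    apply sq_eq_one_of_mem_fibreStab _ _ hg
    intro x y z h1 h2
    have h1' : (e₀ x).val / 2 = (e₀ y).val / 2 := h1
    have h2' : (e₀ y).val / 2 = (e₀ z).val / 2 := h2
    have h3 : (e₀ x).val = (e₀ y).val ∨ (e₀ y).val = (e₀ z).val ∨ (e₀ x).val = (e₀ z).val := by
      omega
    rcases h3 with h | h | h
    · exact Or.inl (e₀.injective (Fin.ext h))
    · exact Or.inr (Or.inl (e₀.injective (Fin.ext h)))
    · exact Or.inr (Or.inr (e₀.injective (Fin.ext h)))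
  haveI : Fact (Nat.Prime 2) := ⟨Nat.prime_two⟩
  obtain ⟨g, hg⟩ := exists_conj_le_of_sylow hP hPi hE
  refine ⟨(g : α ≃ α).trans e₀, ?_⟩
  intro q hq
  have h1 : g * q * g⁻¹ ∈ fibreStab (fun x => (e₀ x).val / 2) := by
    intro x
    have := hq (g⁻¹ x)
    simp only [Equiv.trans_apply, Perm.mul_apply] at this ⊢
    rw [this]
    simp
  have h2 := hg _ h1
  simpa [mul_assoc] using h2

/-- at most one point is not covered by the pairs of a Sylow 2-subgroup -/
theorem covered_or_covered {P : Subgroup (Perm α)} (hP : IsPGroup 2 P)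
    (hPi : ¬ 2 ∣ P.index) {x y : α} (hxy : x ≠ y) :
    (∃ s ∈ pairs P, x ∈ s) ∨ (∃ s ∈ pairs P, y ∈ s) := by
  obtain ⟨e, he⟩ := exists_equiv_fibreStab_le hP hPi
  have key : ∀ z : α, ((e z).val % 2 = 1 ∨ (e z).val + 1 < Fintype.card α) →
      ∃ s ∈ pairs P, z ∈ s := by
    intro z hz
    have hlt := (e z).isLt
    by_cases hodd : (e z).val % 2 = 1
    · let z' : α := e.symm ⟨(e z).val - 1, by omega⟩
      have hz' : (e z').val = (e z).val - 1 := by simp [z']
      have hne : z ≠ z' := by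
        intro h
        rw [← h] at hz'
        omega
      refine ⟨{z, z'}, mem_pairs_of_swap_mem hne (he (swap_mem_fibreStab _ ?_)), Set.mem_insert _ _⟩
      show (e z).val / 2 = (e z').val / 2
      rw [hz']
      omega
    · have h1 : (e z).val + 1 < Fintype.card α := by
        rcases hz with h | h
        · exact absurd h hodd
        · exact h
      let z' : α := e.symm ⟨(e z).val + 1, h1⟩
      have hz' : (e z').val = (e z).val + 1 := by simp [z']
      have hne : z ≠ z' := by
        intro h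
        rw [← h] at hz'
        omega
      refine ⟨{z, z'}, mem_pairs_of_swap_mem hne (he (swap_mem_fibreStab _ ?_)), Set.mem_insert _ _⟩
      show (e z).val / 2 = (e z').val / 2
      rw [hz']
      omega
  by_contra hcon
  push Not at hcon
  obtain ⟨hx, hy⟩ := hcon
  have h1 : ¬ ((e x).val % 2 = 1 ∨ (e x).val + 1 < Fintype.card α) := by
    intro h
    obtain ⟨s, hs, hxs⟩ := key x h
    exact hx s hs hxs
  have h2 : ¬ ((e y).val % 2 = 1 ∨ (e y).val + 1 < Fintype.card α) := by
    intro h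
    obtain ⟨s, hs, hys⟩ := key y h
    exact hy s hs hys
  have hlx := (e x).isLt
  have hly := (e y).isLt
  apply hxy
  apply e.injective
  apply Fin.ext
  omega

end Fibre

end Cfsg.Agent.Lib.Helper5.Pron
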