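import Mathlib
import Cfsg.Agent.Lib.Helper5.Pron.R2

/-! The action of the stabilizer of a family of disjoint sets on that family; counting for the
pairs of a Sylow 2-subgroup. -/

namespace Cfsg.Agent.Lib.Helper5.Pron

open Equiv Equiv.Perm MulAction
open scoped Pointwise
open Cfsg.Agent.Lib.Helper5.HallSn

universe u

variable {α : Type u} [DecidableEq α] [Fintype α]

/-- the action of the stabilizer of a family of sets on the family -/
noncomputable def actHom (ℬ : Set (Set α)) : stabilizer (Perm α) ℬ →* Perm ℬ :=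
  MulAction.toPermHom (stabilizer (Perm α) ℬ) ℬ

theorem actHom_apply_coe (ℬ : Set (Set α)) (g : stabilizer (Perm α) ℬ) (b : ℬ) :
    ((actHom ℬ g b : ℬ) : Set α) = (g : Perm α) • (b : Set α) := rfl

theorem smul_eq_of_mem_ker {ℬ : Set (Set α)} {g : stabilizer (Perm α) ℬ}
    (hg : g ∈ (actHom ℬ).ker) {b : Set α} (hb : b ∈ ℬ) : (g : Perm α) • b = b := by
  have h1 := MonoidHom.mem_ker.mp hg
  have h2 := congrArg (fun σ : Perm ℬ => ((σ ⟨b, hb⟩ : ℬ) : Set α)) h1
  simpa [actHom_apply_coe] using h2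

theorem mem_ker_of_smul_eq {ℬ : Set (Set α)} {g : stabilizer (Perm α) ℬ}
    (hg : ∀ b ∈ ℬ, (g : Perm α) • b = b) : g ∈ (actHom ℬ).ker := by
  rw [MonoidHom.mem_ker]
  ext b
  rw [actHom_apply_coe, hg b b.2]
  rfl

/-- the block containing a point, if any -/
noncomputable def cover (ℬ : Set (Set α)) (x : α) : Option ℬ := by
  classical
  exact if h : ∃ b : ℬ, x ∈ (b : Set α) then some h.choose else none

theorem cover_some {ℬ : Set (Set α)}
    (hdisj : ∀ b ∈ ℬ, ∀ c ∈ ℬ, ∀ x : α, x ∈ b → x ∈ c → b = c) (x : α) (b : ℬ)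
    (hxb : x ∈ (b : Set α)) : cover ℬ x = some b := by
  have h : ∃ b : ℬ, x ∈ (b : Set α) := ⟨b, hxb⟩
  have hc := h.choose_spec
  simp only [cover, dif_pos h]
  congr 1
  apply Subtype.ext
  exact hdisj _ h.choose.2 _ b.2 x hc hxb

theorem cover_none {ℬ : Set (Set α)} (x : α) (h : ¬ ∃ b : ℬ, x ∈ (b : Set α)) :
    cover ℬ x = none := by
  simp only [cover, dif_neg h]

theorem mem_of_cover_some {ℬ : Set (Set α)} (x : α) (b : ℬ) (h : cover ℬ x = some b) :
    x ∈ (b : Set α) := by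
  by_cases hex : ∃ b : ℬ, x ∈ (b : Set α)
  · have hc := hex.choose_spec
    simp only [cover, dif_pos hex] at h
    rw [← Option.some.inj h]
    exact hc
  · rw [cover_none x hex] at h
    exact absurd h (by simp)

theorem not_mem_of_cover_none {ℬ : Set (Set α)} (x : α) (h : cover ℬ x = none) (b : Set α)
    (hb : b ∈ ℬ) : x ∉ b := by
  intro hxb
  have hex : ∃ b : ℬ, x ∈ (b : Set α) := ⟨⟨b, hb⟩, hxb⟩
  simp only [cover, dif_pos hex] at h
  exact absurd h (by simp)

theorem ker_le_fibreStab {ℬ : Set (Set α)}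
    (hdisj : ∀ b ∈ ℬ, ∀ c ∈ ℬ, ∀ x : α, x ∈ b → x ∈ c → b = c) :
    (actHom ℬ).ker.map (stabilizer (Perm α) ℬ).subtype ≤ fibreStab (cover ℬ) := by
  rintro _ ⟨g, hg, rfl⟩
  intro x
  by_cases h : ∃ b : ℬ, x ∈ (b : Set α)
  · obtain ⟨b, hb⟩ := h
    rw [cover_some hdisj x b hb]
    apply cover_some hdisj
    have hx : (g : Perm α) • x ∈ (g : Perm α) • (b : Set α) := Set.smul_mem_smul_set hb
    rw [smul_eq_of_mem_ker hg b.2] at hx
    exact hx
  · rw [cover_none x h]
    apply cover_none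
    rintro ⟨b, hb⟩
    apply h
    refine ⟨b, ?_⟩
    have hb' : (g : Perm α) • x ∈ (g : Perm α) • (b : Set α) := by
      rw [smul_eq_of_mem_ker hg b.2]; exact hb
    exact (Set.smul_mem_smul_set_iff).mp hb'

section Sylow

variable {P : Subgroup (Perm α)}

theorem pairs_disj (hP : IsPGroup 2 P) :
    ∀ b ∈ pairs P, ∀ c ∈ pairs P, ∀ x : α, x ∈ b → x ∈ c → b = c :=
  fun _ hb _ hc _ hxb hxc => pairs_eq_of_mem hP hb hc hxb hxc

/-- fibres of the cover map of `pairs P` have at most two elements -/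
theorem cover_pairs_fibre (hP : IsPGroup 2 P) (hPi : ¬ 2 ∣ P.index) (x y z : α)
    (h1 : cover (pairs P) x = cover (pairs P) y) (h2 : cover (pairs P) y = cover (pairs P) z) :
    x = y ∨ y = z ∨ x = z := by
  rcases hx : cover (pairs P) x with _ | b
  · by_contra hcon
    push Not at hcon
    rcases covered_or_covered hP hPi hcon.1 with ⟨s, hs, hxs⟩ | ⟨s, hs, hys⟩
    · exact not_mem_of_cover_none x hx s hs hxs
    · exact not_mem_of_cover_none y (h1 ▸ hx) s hs hys
  · have hxb := mem_of_cover_some x b hx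
    have hyb := mem_of_cover_some y b (h1 ▸ hx)
    have hzb := mem_of_cover_some z b (h2 ▸ h1 ▸ hx)
    obtain ⟨a, c, hac, -, hbe⟩ := b.2
    rw [hbe] at hxb hyb hzb
    simp only [Set.mem_insert_iff, Set.mem_singleton_iff] at hxb hyb hzb
    rcases hxb with rfl | rfl <;> rcases hyb with rfl | rfl <;> rcases hzb with rfl | rfl <;> simp

theorem sq_eq_one_of_mem_ker (hP : IsPGroup 2 P) (hPi : ¬ 2 ∣ P.index)
    {g : stabilizer (Perm α) (pairs P)} (hg : g ∈ (actHom (pairs P)).ker) : g * g = 1 := by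
  apply Subtype.ext
  have h1 : (g : Perm α) ∈ fibreStab (cover (pairs P)) :=
    ker_le_fibreStab (pairs_disj hP) ⟨g, hg, rfl⟩
  exact sq_eq_one_of_mem_fibreStab _ (cover_pairs_fibre hP hPi) h1

end Sylow

end Cfsg.Agent.Lib.Helper5.Pron
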