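import Mathlib
import Cfsg.Agent.Lib.Helper5.Pron.R3

/-! Counting: the image of a Sylow 2-subgroup in the symmetric group on its pairs is again a
Sylow 2-subgroup. -/

namespace Cfsg.Agent.Lib.Helper5.Pron

open Equiv Equiv.Perm MulAction
open scoped Pointwise
open Cfsg.Agent.Lib.Helper5.HallSn

universe u

variable {α : Type u} [DecidableEq α] [Fintype α] {P : Subgroup (Perm α)}

theorem card_fibre_some (hP : IsPGroup 2 P) (b : pairs P)
    [Fintype {a // cover (pairs P) a = some b}] :
    Fintype.card {a // cover (pairs P) a = some b} = 2 := by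
  rw [← ncard_of_mem_pairs b.2, ← Nat.card_eq_fintype_card, ← Nat.card_coe_set_eq]
  apply Nat.card_congr
  refine Equiv.subtypeEquivRight (fun a => ?_)
  constructor
  · intro h; exact mem_of_cover_some a b h
  · intro h; exact cover_some (pairs_disj hP) a b h

theorem card_fibre_none_le (hP : IsPGroup 2 P) (hPi : ¬ 2 ∣ P.index)
    [Fintype {a // cover (pairs P) a = none}] :
    Fintype.card {a // cover (pairs P) a = none} ≤ 1 := by
  rw [Fintype.card_le_one_iff_subsingleton]
  constructor
  rintro ⟨x, hx⟩ ⟨y, hy⟩
  apply Subtype.ext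
  show x = y
  by_contra hxy
  rcases covered_or_covered hP hPi hxy with ⟨s, hs, hxs⟩ | ⟨s, hs, hys⟩
  · exact not_mem_of_cover_none x hx s hs hxs
  · exact not_mem_of_cover_none y hy s hs hys

theorem card_eq_two_mul_add (hP : IsPGroup 2 P) (hPi : ¬ 2 ∣ P.index) :
    ∃ r, r ≤ 1 ∧ Fintype.card α = 2 * (pairs P).ncard + r ∧
      Nat.card (fibreStab (cover (pairs P))) = 2 ^ (pairs P).ncard := by
  classical
  haveI hfin : Fintype (pairs P) := Fintype.ofFinite _
  have hcardB : Fintype.card (pairs P) = (pairs P).ncard := by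
    rw [← Nat.card_eq_fintype_card]; rfl
  refine ⟨Fintype.card {a // cover (pairs P) a = none}, card_fibre_none_le hP hPi, ?_, ?_⟩
  · rw [Fintype.card_congr (Equiv.sigmaFiberEquiv (cover (pairs P))).symm, Fintype.card_sigma,
      Fintype.sum_option]
    have h1 : ∑ b : pairs P, Fintype.card {a // cover (pairs P) a = some b} =
        2 * (pairs P).ncard := by
      rw [Finset.sum_congr rfl (fun b _ => card_fibre_some hP b)]
      rw [Finset.sum_const, Finset.card_univ, hcardB, smul_eq_mul, mul_comm]
    rw [h1]
    ring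
  · rw [card_fibreStab, Fintype.prod_option]
    have h1 : ∏ b : pairs P, (Fintype.card {a // cover (pairs P) a = some b}).factorial =
        2 ^ (pairs P).ncard := by
      rw [Finset.prod_congr rfl (fun b _ => by rw [card_fibre_some hP b])]
      rw [Finset.prod_const, Finset.card_univ, hcardB]
      rfl
    rw [h1]
    have h2 := card_fibre_none_le hP hPi
    have h3 : (Fintype.card {a // cover (pairs P) a = none}).factorial = 1 := by
      interval_cases (Fintype.card {a // cover (pairs P) a = none}) <;> rfl
    rw [h3, one_mul]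

theorem padicValNat_factorial_two_mul_add (k r : ℕ) (hr : r ≤ 1) :
    padicValNat 2 (2 * k + r).factorial = padicValNat 2 k.factorial + k := by
  haveI : Fact (Nat.Prime 2) := ⟨Nat.prime_two⟩
  rw [padicValNat_factorial_mul_add k (by omega : r < 2), padicValNat_factorial_mul]

theorem card_sylow_perm (hP : IsPGroup 2 P) (hPi : ¬ 2 ∣ P.index) :
    Nat.card P = 2 ^ padicValNat 2 (Fintype.card α).factorial := by
  haveI : Fact (Nat.Prime 2) := ⟨Nat.prime_two⟩
  have h1 := (hP.toSylow hPi).card_eq_multiplicity
  rw [Nat.card_eq_fintype_card (α := Perm α), Fintype.card_perm,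
    Nat.factorization_def _ Nat.prime_two] at h1
  exact h1

end Cfsg.Agent.Lib.Helper5.Pron
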