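import Mathlib
import Cfsg.Agent.Lib.Helper5.Pron.R4

/-! Sylow 2-subgroups of symmetric groups are self-normalizing (odd-order version). -/

namespace Cfsg.Agent.Lib.Helper5.Pron

open Equiv Equiv.Perm MulAction
open scoped Pointwise
open Cfsg.Agent.Lib.Helper5.HallSn

universe u

section

variable {α : Type u} [DecidableEq α] [Fintype α] {P : Subgroup (Perm α)}

/-- the image of `P` in the symmetric group on `pairs P` -/
noncomputable def imgSub (P : Subgroup (Perm α)) : Subgroup (Perm (pairs P)) :=
  (P.subgroupOf (stabilizer (Perm α) (pairs P))).map (actHom (pairs P))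

theorem sylow_image (hP : IsPGroup 2 P) (hPi : ¬ 2 ∣ P.index) :
    IsPGroup 2 (imgSub P) ∧ ¬ 2 ∣ (imgSub P).index := by
  classical
  haveI : Fact (Nat.Prime 2) := ⟨Nat.prime_two⟩
  unfold imgSub
  set ℬ := pairs P with hℬ
  set S := stabilizer (Perm α) ℬ with hS
  set φ := actHom ℬ with hφ
  set P' := P.subgroupOf S with hP'
  set R := P'.map φ with hR
  haveI hfin : Fintype ℬ := Fintype.ofFinite _
  have hcardB : Fintype.card ℬ = ℬ.ncard := by
    rw [← Nat.card_eq_fintype_card]; rfl
  have hP'2 : IsPGroup 2 P' := hP.comap_subtype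
  have hR2 : IsPGroup 2 R := hP'2.map φ
  refine ⟨hR2, ?_⟩
  obtain ⟨r, hr, hn, hfs⟩ := card_eq_two_mul_add hP hPi
  have hcP : Nat.card P = 2 ^ (padicValNat 2 ℬ.ncard.factorial + ℬ.ncard) := by
    rw [card_sylow_perm hP hPi, hn, padicValNat_factorial_two_mul_add _ _ hr]
  have hcP' : Nat.card P' = Nat.card P :=
    Nat.card_congr (Subgroup.subgroupOfEquivOfLe (le_stabilizer_pairs P)).toEquiv
  have h1 : Nat.card (φ.ker.subgroupOf P') * Nat.card R = Nat.card P' := by
    have h0 : φ.ker.relIndex P' = Nat.card R := Subgroup.relIndex_ker (K := P') φ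
    rw [← h0]
    exact Subgroup.card_mul_index (φ.ker.subgroupOf P')
  have h2 : Nat.card (φ.ker.subgroupOf P') ∣ 2 ^ ℬ.ncard := by
    rw [← hfs]
    have ha : Nat.card (φ.ker.subgroupOf P') ∣ Nat.card φ.ker := by
      rw [← Subgroup.inf_subgroupOf_right φ.ker P']
      rw [Nat.card_congr (Subgroup.subgroupOfEquivOfLe (inf_le_right : φ.ker ⊓ P' ≤ P')).toEquiv]
      exact Subgroup.card_dvd_of_le inf_le_left
    have hb : Nat.card φ.ker ∣ Nat.card (fibreStab (cover ℬ)) := by
      have hinj : Nat.card (φ.ker.map S.subtype) = Nat.card φ.ker :=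
        Nat.card_congr (Subgroup.equivMapOfInjective _ _ S.subtype_injective).symm.toEquiv
      rw [← hinj]
      exact Subgroup.card_dvd_of_le (ker_le_fibreStab (pairs_disj hP))
    exact ha.trans hb
  obtain ⟨c, hc⟩ := h2
  have h3 : Nat.card R = 2 ^ padicValNat 2 ℬ.ncard.factorial * c := by
    have hapos : 0 < Nat.card (φ.ker.subgroupOf P') := Nat.card_pos
    apply Nat.eq_of_mul_eq_mul_left hapos
    rw [h1, hcP', hcP, pow_add, hc]; ring
  intro h2d
  have h4 : Nat.card R * R.index = ℬ.ncard.factorial := by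
    rw [Subgroup.card_mul_index, Nat.card_eq_fintype_card, Fintype.card_perm, hcardB]
  have h5 : 2 ^ (padicValNat 2 ℬ.ncard.factorial + 1) ∣ Nat.card R * R.index := by
    obtain ⟨d, hd⟩ := h2d
    rw [h3, hd, pow_succ]
    exact ⟨c * d, by ring⟩
  rw [h4] at h5
  exact pow_succ_padicValNat_not_dvd (Nat.factorial_ne_zero _) h5

theorem eq_one_of_sq_of_odd {Γ : Type*} [Group Γ] {x : Γ} (h : x * x = 1)
    (hodd : Odd (orderOf x)) : x = 1 := by
  have h1 : orderOf x ∣ 2 := orderOf_dvd_of_pow_eq_one (by rw [pow_two, h])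
  have h2 : orderOf x = 1 := by
    rcases (Nat.dvd_prime Nat.prime_two).mp h1 with h3 | h3
    · exact h3
    · rw [h3] at hodd; exact absurd hodd (by decide)
  exact orderOf_eq_one_iff.mp h2

end

/-- An element of odd order normalizing a Sylow 2-subgroup of a symmetric group is trivial. -/
theorem claimA_aux : ∀ (m : ℕ) (α : Type u) [DecidableEq α] [Fintype α], Fintype.card α = m →
    ∀ (P : Subgroup (Perm α)), IsPGroup 2 P → ¬ 2 ∣ P.index →
    ∀ x ∈ Subgroup.normalizer (P : Set (Perm α)), Odd (orderOf x) → x = 1 := by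
  intro m
  induction m using Nat.strong_induction_on with
  | _ m ih =>
    intro α _ _ hcard P hP hPi x hx hodd
    classical
    by_cases hm : m ≤ 1
    · haveI : Subsingleton α := by
        rw [← Fintype.card_le_one_iff_subsingleton, hcard]; exact hm
      exact Subsingleton.elim _ _
    push Not at hm
    have hxS : x ∈ stabilizer (Perm α) (pairs P) := normalizer_le_stabilizer_pairs P hx
    haveI hfin : Fintype (pairs P) := Fintype.ofFinite _
    have hcardB : Fintype.card (pairs P) = (pairs P).ncard := by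
      rw [← Nat.card_eq_fintype_card]; rfl
    obtain ⟨r, hr, hn, -⟩ := card_eq_two_mul_add hP hPi
    have hlt : (pairs P).ncard < m := by omega
    obtain ⟨hR2, hRi⟩ := sylow_image hP hPi
    set x' : stabilizer (Perm α) (pairs P) := ⟨x, hxS⟩ with hx'
    have hnorm : actHom (pairs P) x' ∈ Subgroup.normalizer ((imgSub P : Subgroup _) : Set _) := by
      apply Subgroup.le_normalizer_map
      refine ⟨x', ?_, rfl⟩
      exact Subgroup.le_normalizer_comap (stabilizer (Perm α) (pairs P)).subtype hx
    have hord : orderOf x' = orderOf x := Subgroup.orderOf_mk x hxS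
    have hodd' : Odd (orderOf (actHom (pairs P) x')) := by
      apply Odd.of_dvd_nat hodd
      rw [← hord]
      exact orderOf_map_dvd _ _
    have h1 : actHom (pairs P) x' = 1 :=
      ih _ hlt (pairs P) hcardB (imgSub P) hR2 hRi _ hnorm hodd'
    have h2 : x' * x' = 1 := sq_eq_one_of_mem_ker hP hPi (MonoidHom.mem_ker.mpr h1)
    have h3 : x * x = 1 := congrArg Subtype.val h2
    exact eq_one_of_sq_of_odd h3 hodd

theorem claimA {α : Type u} [DecidableEq α] [Fintype α] {P : Subgroup (Perm α)}
    (hP : IsPGroup 2 P) (hPi : ¬ 2 ∣ P.index) {x : Perm α}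
    (hx : x ∈ Subgroup.normalizer (P : Set (Perm α))) (hodd : Odd (orderOf x)) : x = 1 :=
  claimA_aux _ α rfl P hP hPi x hx hodd

end Cfsg.Agent.Lib.Helper5.Pron
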