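import Mathlib
import Cfsg.Agent.Lib.Helper5.Pron.R5

/-! Sylow 2-subgroups of alternating groups of degree at least 6: elements of odd order in the
normalizer (taken in the symmetric group) are trivial. -/

namespace Cfsg.Agent.Lib.Helper5.Pron

open Equiv Equiv.Perm MulAction
open scoped Pointwise
open Cfsg.Agent.Lib.Helper5.HallSn

universe u

variable {α : Type u} [DecidableEq α] [Fintype α] {P : Subgroup (Perm α)}

theorem three_le_ncard_pairs (hP : IsPGroup 2 P) (hPi : ¬ 2 ∣ P.index)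
    (h6 : 6 ≤ Fintype.card α) : 3 ≤ (pairs P).ncard := by
  obtain ⟨r, hr, hn, -⟩ := card_eq_two_mul_add hP hPi
  omega

/-- a pair avoiding three given points, two of which form a pair -/
theorem exists_third_pair (hP : IsPGroup 2 P) (hPi : ¬ 2 ∣ P.index)
    (h6 : 6 ≤ Fintype.card α) {a a' b : α} (haa' : ({a, a'} : Set α) ∈ pairs P) :
    ∃ s ∈ pairs P, a ∉ s ∧ a' ∉ s ∧ b ∉ s := by
  classical
  have h3 := three_le_ncard_pairs hP hPi h6
  let s₁ : Set α := if h : ∃ s ∈ pairs P, b ∈ s then h.choose else {a, a'}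
  have hlt : ({({a, a'} : Set α), s₁} : Set (Set α)).ncard < (pairs P).ncard := by
    have h1 := Set.ncard_insert_le ({a, a'} : Set α) ({s₁} : Set (Set α))
    rw [Set.ncard_singleton] at h1
    omega
  obtain ⟨s, hs, hns⟩ := Set.exists_mem_notMem_of_ncard_lt_ncard hlt
  rw [Set.mem_insert_iff, Set.mem_singleton_iff] at hns
  push Not at hns
  refine ⟨s, hs, ?_, ?_, ?_⟩
  · intro ha
    exact hns.1 (pairs_eq_of_mem hP hs haa' ha (Set.mem_insert _ _))
  · intro ha
    exact hns.1 (pairs_eq_of_mem hP hs haa' ha (Set.mem_insert_of_mem _ rfl))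
  · intro hb
    have hex : ∃ s ∈ pairs P, b ∈ s := ⟨s, hs, hb⟩
    have hs₁ : s₁ = hex.choose := by simp only [s₁, dif_pos hex]
    apply hns.2
    rw [hs₁]
    exact pairs_eq_of_mem hP hs hex.choose_spec.1 hb hex.choose_spec.2

/-- a covered point has a partner -/
theorem exists_partner {a : α} (h : ∃ s ∈ pairs P, a ∈ s) :
    ∃ a', a ≠ a' ∧ swap a a' ∈ P := by
  obtain ⟨s, ⟨u, v, huv, h1, rfl⟩, ha⟩ := h
  rcases ha with rfl | ha
  · exact ⟨v, huv, h1⟩
  · rw [Set.mem_singleton_iff] at ha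
    subst ha
    exact ⟨u, huv.symm, by rw [swap_comm]; exact h1⟩

theorem double_swap_aux (hP : IsPGroup 2 P) {a b c d : α} (hab : a ≠ b) (hcd : c ≠ d)
    (hac : a ≠ c) (had : a ≠ d) (hbc : b ≠ c) (hbd : b ≠ d)
    (hy : swap a b * swap c d ∈ P) (ha : ∃ s ∈ pairs P, a ∈ s) :
    (({a, b} : Set α) ∈ pairs P ∧ ({c, d} : Set α) ∈ pairs P) ∨
    (({a, c} : Set α) ∈ pairs P ∧ ({b, d} : Set α) ∈ pairs P) ∨
    (({a, d} : Set α) ∈ pairs P ∧ ({b, c} : Set α) ∈ pairs P) := by
  obtain ⟨a', haa', h1⟩ := exists_partner ha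
  have h2 : ({a, a'} : Set α) ∈ pairs P := mem_pairs_of_swap_mem haa' h1
  have h3 := smul_mem_pairs (Subgroup.le_normalizer hy) h2
  rw [smul_pair'] at h3
  have hya : (swap a b * swap c d) a = b := by
    rw [Perm.mul_apply, swap_apply_of_ne_of_ne hac had, swap_apply_left]
  rw [hya] at h3
  by_cases e1 : a' = b
  · subst e1
    left
    refine ⟨h2, mem_pairs_of_swap_mem hcd ?_⟩
    have : swap c d = (swap a a')⁻¹ * (swap a a' * swap c d) := by group
    rw [this]
    exact P.mul_mem (P.inv_mem h1) hy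
  by_cases e2 : a' = c
  · subst e2
    right; left
    refine ⟨h2, ?_⟩
    have hyc : (swap a b * swap a' d) a' = d := by
      rw [Perm.mul_apply, swap_apply_left, swap_apply_of_ne_of_ne had.symm hbd.symm]
    rwa [hyc] at h3
  by_cases e3 : a' = d
  · subst e3
    right; right
    refine ⟨h2, ?_⟩
    have hyd : (swap a b * swap c a') a' = c := by
      rw [Perm.mul_apply, swap_apply_right, swap_apply_of_ne_of_ne hac.symm hbc.symm]
    rwa [hyd] at h3
  · exfalso
    have hya' : (swap a b * swap c d) a' = a' := by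
      rw [Perm.mul_apply, swap_apply_of_ne_of_ne e2 e3, swap_apply_of_ne_of_ne haa'.symm e1]
    rw [hya'] at h3
    have h4 : swap a' b ∈ P := by
      rw [swap_comm]
      exact swap_mem_of_mem_pairs (Ne.symm e1) h3
    have h5 : swap a' a ∈ P := by rw [swap_comm]; exact h1
    exact hab (swap_eq_of_two_group hP haa'.symm e1 h5 h4)

/-- a double transposition in a Sylow 2-subgroup is compatible with its pairs -/
theorem double_swap (hP : IsPGroup 2 P) (hPi : ¬ 2 ∣ P.index) {a b c d : α} (hab : a ≠ b)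
    (hcd : c ≠ d) (hac : a ≠ c) (had : a ≠ d) (hbc : b ≠ c) (hbd : b ≠ d)
    (hy : swap a b * swap c d ∈ P) :
    (({a, b} : Set α) ∈ pairs P ∧ ({c, d} : Set α) ∈ pairs P) ∨
    (({a, c} : Set α) ∈ pairs P ∧ ({b, d} : Set α) ∈ pairs P) ∨
    (({a, d} : Set α) ∈ pairs P ∧ ({b, c} : Set α) ∈ pairs P) := by
  rcases covered_or_covered hP hPi hab with ha | hb
  · exact double_swap_aux hP hab hcd hac had hbc hbd hy ha
  · have hy' : swap b a * swap c d ∈ P := by rw [swap_comm b a]; exact hy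
    rcases double_swap_aux hP hab.symm hcd hbc hbd hac had hy' hb with h | h | h
    · left; rw [Set.pair_comm a b]; exact h
    · right; right; exact ⟨h.2, h.1⟩
    · right; left; exact ⟨h.2, h.1⟩

end Cfsg.Agent.Lib.Helper5.Pron
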