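import Mathlib
import Cfsg.Agent.Lib.Helper5.Pron.R6

/-! Sylow 2-subgroups of alternating groups of degree at least 6, continued. -/

namespace Cfsg.Agent.Lib.Helper5.Pron

open Equiv Equiv.Perm MulAction
open scoped Pointwise
open Cfsg.Agent.Lib.Helper5.HallSn

universe u

variable {α : Type u} [DecidableEq α] [Fintype α] {P : Subgroup (Perm α)}

theorem swap_mul_swap_mem_alt' {a b c d : α} (hab : a ≠ b) (hcd : c ≠ d) :
    swap a b * swap c d ∈ alternatingGroup α := by
  rw [mem_alternatingGroup, map_mul, sign_swap hab, sign_swap hcd]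
  rfl

theorem le_normalizer_inf_normal {Γ : Type*} [Group Γ] (P A : Subgroup Γ) [hA : A.Normal] :
    P ≤ Subgroup.normalizer ((P ⊓ A : Subgroup Γ) : Set Γ) := by
  intro p hp
  rw [Subgroup.mem_normalizer_iff]
  intro h
  simp only [Subgroup.mem_inf]
  constructor
  · rintro ⟨h1, h2⟩
    exact ⟨P.mul_mem (P.mul_mem hp h1) (P.inv_mem hp), hA.conj_mem h h2 p⟩
  · rintro ⟨h1, h2⟩
    have e : h = p⁻¹ * (p * h * p⁻¹) * p := by group
    rw [e]
    refine ⟨P.mul_mem (P.mul_mem (P.inv_mem hp) h1) hp, ?_⟩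
    have := hA.conj_mem _ h2 p⁻¹
    simpa using this

theorem swap_mem_of_normalizes_aux (hP : IsPGroup 2 P) (hPi : ¬ 2 ∣ P.index)
    (h6 : 6 ≤ Fintype.card α) {a b : α} (hab : a ≠ b)
    (ht : swap a b ∈ Subgroup.normalizer
      ((P ⊓ alternatingGroup α : Subgroup (Perm α)) : Set (Perm α)))
    (ha : ∃ s ∈ pairs P, a ∈ s) : swap a b ∈ P := by
  by_contra hnot
  obtain ⟨a', haa', h1⟩ := exists_partner ha
  have ha'b : a' ≠ b := by rintro rfl; exact hnot h1
  have h2 : ({a, a'} : Set α) ∈ pairs P := mem_pairs_of_swap_mem haa' h1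
  obtain ⟨s, hs, has, ha's, hbs⟩ := exists_third_pair hP hPi h6 (b := b) h2
  obtain ⟨e, e', hee', h3, rfl⟩ := hs
  have hae : a ≠ e := fun h => has (h ▸ Set.mem_insert _ _)
  have hae' : a ≠ e' := fun h => has (h ▸ Set.mem_insert_of_mem _ rfl)
  have ha'e : a' ≠ e := fun h => ha's (h ▸ Set.mem_insert _ _)
  have ha'e' : a' ≠ e' := fun h => ha's (h ▸ Set.mem_insert_of_mem _ rfl)
  have hbe : b ≠ e := fun h => hbs (h ▸ Set.mem_insert _ _)
  have hbe' : b ≠ e' := fun h => hbs (h ▸ Set.mem_insert_of_mem _ rfl)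
  have hd : swap a a' * swap e e' ∈ P ⊓ alternatingGroup α :=
    ⟨P.mul_mem h1 h3, swap_mul_swap_mem_alt' haa' hee'⟩
  have hconj := (Subgroup.mem_normalizer_iff.mp ht _).mp hd
  have heq : swap a b * (swap a a' * swap e e') * (swap a b)⁻¹ = swap b a' * swap e e' := by
    have e1 : swap a b * swap a a' * (swap a b)⁻¹ = swap b a' := by
      rw [← swap_apply_apply, swap_apply_left, swap_apply_of_ne_of_ne haa'.symm ha'b]
    have e2 : swap a b * swap e e' * (swap a b)⁻¹ = swap e e' := by
      rw [← swap_apply_apply, swap_apply_of_ne_of_ne hae.symm hbe.symm,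
        swap_apply_of_ne_of_ne hae'.symm hbe'.symm]
    calc swap a b * (swap a a' * swap e e') * (swap a b)⁻¹
        = (swap a b * swap a a' * (swap a b)⁻¹) * (swap a b * swap e e' * (swap a b)⁻¹) := by
          group
      _ = swap b a' * swap e e' := by rw [e1, e2]
  rw [heq] at hconj
  rcases double_swap hP hPi ha'b.symm hee' hbe hbe' ha'e ha'e' hconj.1 with h | h | h
  · have h4 : swap a' b ∈ P := by
      rw [swap_comm]; exact swap_mem_of_mem_pairs ha'b.symm h.1
    have h5 : swap a' a ∈ P := by rw [swap_comm]; exact h1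
    exact hab (swap_eq_of_two_group hP haa'.symm ha'b h5 h4)
  · have h4 : swap e' a' ∈ P := by
      rw [swap_comm]; exact swap_mem_of_mem_pairs ha'e' h.2
    have h5 : swap e' e ∈ P := by rw [swap_comm]; exact h3
    exact ha'e (swap_eq_of_two_group hP ha'e'.symm hee'.symm h4 h5)
  · have h4 : swap e a' ∈ P := by
      rw [swap_comm]; exact swap_mem_of_mem_pairs ha'e h.2
    exact ha'e' (swap_eq_of_two_group hP ha'e.symm hee' h4 h3)

/-- a transposition normalizing `P ⊓ A` lies in `P` -/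
theorem swap_mem_of_normalizes (hP : IsPGroup 2 P) (hPi : ¬ 2 ∣ P.index)
    (h6 : 6 ≤ Fintype.card α) {a b : α} (hab : a ≠ b)
    (ht : swap a b ∈ Subgroup.normalizer
      ((P ⊓ alternatingGroup α : Subgroup (Perm α)) : Set (Perm α))) : swap a b ∈ P := by
  rcases covered_or_covered hP hPi hab with ha | hb
  · exact swap_mem_of_normalizes_aux hP hPi h6 hab ht ha
  · rw [swap_comm]
    rw [swap_comm] at ht
    exact swap_mem_of_normalizes_aux hP hPi h6 hab.symm ht hb

theorem normalizer_inf_alt_le_stabilizer (hP : IsPGroup 2 P) (hPi : ¬ 2 ∣ P.index)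
    (h6 : 6 ≤ Fintype.card α) :
    Subgroup.normalizer ((P ⊓ alternatingGroup α : Subgroup (Perm α)) : Set (Perm α)) ≤
      stabilizer (Perm α) (pairs P) := by
  intro x hx
  rw [mem_stabilizer_set_iff_smul_set_subset (Set.toFinite _)]
  rintro _ ⟨s, ⟨a, b, hab, h1, rfl⟩, rfl⟩
  show x • ({a, b} : Set α) ∈ pairs P
  rw [smul_pair']
  have hne : x a ≠ x b := fun h => hab (x.injective h)
  apply mem_pairs_of_swap_mem hne
  apply swap_mem_of_normalizes hP hPi h6 hne
  rw [swap_apply_apply]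
  have hPN := le_normalizer_inf_normal P (alternatingGroup α)
  exact Subgroup.mul_mem _ (Subgroup.mul_mem _ hx (hPN h1)) (Subgroup.inv_mem _ hx)

theorem swap_smul_pair_eq (hP : IsPGroup 2 P) {a b : α} (hab : a ≠ b) (h1 : swap a b ∈ P)
    {s : Set α} (hs : s ∈ pairs P) : swap a b • s = s := by
  have hab' : ({a, b} : Set α) ∈ pairs P := mem_pairs_of_swap_mem hab h1
  by_cases ha : a ∈ s
  · rw [pairs_eq_of_mem hP hs hab' ha (Set.mem_insert _ _), smul_pair', swap_apply_left,
      swap_apply_right, Set.pair_comm]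
  by_cases hb : b ∈ s
  · rw [pairs_eq_of_mem hP hs hab' hb (Set.mem_insert_of_mem _ rfl), smul_pair', swap_apply_left,
      swap_apply_right, Set.pair_comm]
  obtain ⟨c, d, hcd, -, rfl⟩ := hs
  have hca : c ≠ a := fun h => ha (h ▸ Set.mem_insert _ _)
  have hda : d ≠ a := fun h => ha (h ▸ Set.mem_insert_of_mem _ rfl)
  have hcb : c ≠ b := fun h => hb (h ▸ Set.mem_insert _ _)
  have hdb : d ≠ b := fun h => hb (h ▸ Set.mem_insert_of_mem _ rfl)
  rw [smul_pair', swap_apply_of_ne_of_ne hca hcb, swap_apply_of_ne_of_ne hda hdb]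

/-- `P ⊓ A` and `P` have the same image in the symmetric group on the pairs -/
theorem map_inf_alt_eq (hP : IsPGroup 2 P) (hPi : ¬ 2 ∣ P.index) (h6 : 6 ≤ Fintype.card α) :
    ((P ⊓ alternatingGroup α).subgroupOf (stabilizer (Perm α) (pairs P))).map
      (actHom (pairs P)) = imgSub P := by
  apply le_antisymm
  · rintro _ ⟨p, hp, rfl⟩
    exact ⟨p, hp.1, rfl⟩
  · rintro _ ⟨p, hp, rfl⟩
    have hp' : (p : Perm α) ∈ P := hp
    by_cases hA : (p : Perm α) ∈ alternatingGroup α
    · exact ⟨p, ⟨hp', hA⟩, rfl⟩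
    · have h3 := three_le_ncard_pairs hP hPi h6
      have hne : (pairs P).Nonempty := by
        rw [← Set.ncard_pos]; omega
      obtain ⟨s, a, b, hab, h1, rfl⟩ := hne
      have htS : swap a b ∈ stabilizer (Perm α) (pairs P) := le_stabilizer_pairs P h1
      have hker : (⟨swap a b, htS⟩ : stabilizer (Perm α) (pairs P)) ∈ (actHom (pairs P)).ker :=
        mem_ker_of_smul_eq (fun s hs => swap_smul_pair_eq hP hab h1 hs)
      refine ⟨p * ⟨swap a b, htS⟩, ⟨P.mul_mem hp' h1, ?_⟩, ?_⟩
      · show (p : Perm α) * swap a b ∈ alternatingGroup α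
        rw [mem_alternatingGroup] at hA ⊢
        rw [map_mul, sign_swap hab]
        rcases Int.units_eq_one_or (sign (p : Perm α)) with h | h
        · exact absurd h hA
        · rw [h]; rfl
      · rw [map_mul, MonoidHom.mem_ker.mp hker, mul_one]

/-- An element of odd order normalizing a Sylow 2-subgroup of the alternating group of degree
at least 6 (inside the symmetric group) is trivial. -/
theorem eq_one_of_normalizes_inf_alt (hP : IsPGroup 2 P) (hPi : ¬ 2 ∣ P.index)
    (h6 : 6 ≤ Fintype.card α) {x : Perm α}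
    (hx : x ∈ Subgroup.normalizer
      ((P ⊓ alternatingGroup α : Subgroup (Perm α)) : Set (Perm α)))
    (hodd : Odd (orderOf x)) : x = 1 := by
  classical
  have hxS := normalizer_inf_alt_le_stabilizer hP hPi h6 hx
  haveI hfin : Fintype (pairs P) := Fintype.ofFinite _
  obtain ⟨hR2, hRi⟩ := sylow_image hP hPi
  set x' : stabilizer (Perm α) (pairs P) := ⟨x, hxS⟩ with hx'
  have hnorm : actHom (pairs P) x' ∈ Subgroup.normalizer ((imgSub P : Subgroup _) : Set _) := by
    rw [← map_inf_alt_eq hP hPi h6]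
    apply Subgroup.le_normalizer_map
    refine ⟨x', ?_, rfl⟩
    exact Subgroup.le_normalizer_comap (stabilizer (Perm α) (pairs P)).subtype hx
  have hord : orderOf x' = orderOf x := Subgroup.orderOf_mk x hxS
  have hodd' : Odd (orderOf (actHom (pairs P) x')) := by
    apply Odd.of_dvd_nat hodd
    rw [← hord]
    exact orderOf_map_dvd _ _
  have h1 : actHom (pairs P) x' = 1 := claimA hR2 hRi hnorm hodd'
  have h2 : x' * x' = 1 := sq_eq_one_of_mem_ker hP hPi (MonoidHom.mem_ker.mpr h1)
  have h3 : x * x = 1 := congrArg Subtype.val h2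
  exact eq_one_of_sq_of_odd h3 hodd

end Cfsg.Agent.Lib.Helper5.Pron
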