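import Mathlib
import Cfsg.Agent.Lib.Helper5.Pron.R7
import Cfsg.Agent.Lib.Helper5.HallSn.H7

/-! Subgroups of odd index in alternating groups are pronormal. -/

namespace Cfsg.Agent.Lib.Helper5.Pron

open Equiv Equiv.Perm MulAction
open scoped Pointwise
open Cfsg.Agent.Lib.Helper5.HallSn

universe u

variable {α : Type u} [DecidableEq α] [Fintype α]

/-- Sylow 2-subgroups of alternating groups of degree at least 6 are self-normalizing. -/
theorem normalizer_sylow_alt (h6 : 6 ≤ Fintype.card α) {S₀ : Subgroup (alternatingGroup α)}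
    (hS : IsPGroup 2 S₀) (hSi : ¬ 2 ∣ S₀.index) :
    Subgroup.normalizer (S₀ : Set (alternatingGroup α)) = S₀ := by
  haveI : Fact (Nat.Prime 2) := ⟨Nat.prime_two⟩
  have hT₀ : IsPGroup 2 (S₀.map (alternatingGroup α).subtype) := hS.map _
  obtain ⟨Q, hQ⟩ := hT₀.exists_le_sylow
  have hP : IsPGroup 2 (Q : Subgroup (Perm α)) := Q.isPGroup'
  have hPi : ¬ 2 ∣ (Q : Subgroup (Perm α)).index := Q.not_dvd_index
  -- `T₀ = P ⊓ A`
  have hT' : IsPGroup 2 (((Q : Subgroup (Perm α)) ⊓ alternatingGroup α).subgroupOf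
      (alternatingGroup α)) := (hP.to_le inf_le_left).comap_subtype
  have hle : S₀ ≤ ((Q : Subgroup (Perm α)) ⊓ alternatingGroup α).subgroupOf
      (alternatingGroup α) := by
    intro s hs
    rw [Subgroup.mem_subgroupOf]
    exact ⟨hQ ⟨s, hs, rfl⟩, s.2⟩
  have hmax := (hS.toSylow hSi).is_maximal' hT' (by rw [IsPGroup.toSylow_coe]; exact hle)
  rw [IsPGroup.toSylow_coe] at hmax
  have hTeq : S₀.map (alternatingGroup α).subtype =
      (Q : Subgroup (Perm α)) ⊓ alternatingGroup α := by
    apply le_antisymm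
    · exact le_inf hQ (Subgroup.map_subtype_le _)
    · intro y hy
      have : (⟨y, hy.2⟩ : alternatingGroup α) ∈ S₀ := by
        rw [← hmax, Subgroup.mem_subgroupOf]
        exact hy
      exact ⟨⟨y, hy.2⟩, this, rfl⟩
  have key : ∀ y : alternatingGroup α, y ∈ Subgroup.normalizer (S₀ : Set (alternatingGroup α)) →
      Odd (orderOf y) → y = 1 := by
    intro y hy hodd
    have h1 : (y : Perm α) ∈ Subgroup.normalizer
        ((S₀.map (alternatingGroup α).subtype : Subgroup (Perm α)) : Set (Perm α)) :=
      Subgroup.le_normalizer_map (alternatingGroup α).subtype ⟨y, hy, rfl⟩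
    rw [hTeq] at h1
    have h2 : Odd (orderOf (y : Perm α)) := by
      rw [Subgroup.orderOf_coe]; exact hodd
    have h3 := eq_one_of_normalizes_inf_alt hP hPi h6 h1 h2
    exact Subtype.ext h3
  apply le_antisymm _ Subgroup.le_normalizer
  rw [← Subgroup.relIndex_eq_one]
  by_contra hne
  obtain ⟨q, hq, hd⟩ := Nat.exists_prime_and_dvd hne
  have hq2 : q ≠ 2 := by
    rintro rfl
    apply hSi
    rw [← Subgroup.relIndex_mul_index (Subgroup.le_normalizer (H := S₀))]
    exact Dvd.dvd.mul_right hd _
  haveI : Fact q.Prime := ⟨hq⟩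
  obtain ⟨y, hy⟩ := exists_prime_orderOf_dvd_card' (G := Subgroup.normalizer
    (S₀ : Set (alternatingGroup α))) q (hd.trans (Subgroup.relIndex_dvd_card _ _))
  have hy' : orderOf (y : alternatingGroup α) = q := by
    rw [Subgroup.orderOf_coe]; exact hy
  have h1 := key y y.2 (hy' ▸ hq.odd_of_ne_two hq2)
  rw [h1, orderOf_one] at hy'
  exact hq.one_lt.ne hy'

theorem pronormal_of_odd_index_alt (h6 : 6 ≤ Fintype.card α)
    (H : Subgroup (alternatingGroup α)) (hH : Odd H.index) : Cfsg.IsPronormal H := by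
  haveI : Fact (Nat.Prime 2) := ⟨Nat.prime_two⟩
  let Q : Sylow 2 H := default
  have hS : IsPGroup 2 ((Q : Subgroup H).map H.subtype) := Q.isPGroup'.map _
  have hSi : ¬ 2 ∣ ((Q : Subgroup H).map H.subtype).index := by
    rw [Subgroup.index_map_subtype]
    intro h
    rcases (Nat.Prime.dvd_mul Nat.prime_two).mp h with h | h
    · exact Q.not_dvd_index h
    · exact (Nat.not_even_iff_odd.mpr hH) (even_iff_two_dvd.mpr h)
  have hSH : (Q : Subgroup H).map H.subtype ≤ H := Subgroup.map_subtype_le _
  apply pronormal_of_sylow_normalizer_le hS hSi hSH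
  rw [normalizer_sylow_alt h6 hS hSi]
  exact hSH.trans Subgroup.le_normalizer

theorem pronormal_of_odd_index_alt_five (h5 : Fintype.card α = 5)
    (H : Subgroup (alternatingGroup α)) (hH : Odd H.index) : Cfsg.IsPronormal H := by
  haveI : Fact (Nat.Prime 2) := ⟨Nat.prime_two⟩
  haveI : Nontrivial α := by
    rw [← Fintype.one_lt_card_iff_nontrivial]; omega
  have hcard : Nat.card (alternatingGroup α) = 60 := by
    have h1 := two_mul_card_alternatingGroup (α := α)
    rw [Fintype.card_perm, h5] at h1
    have : (5 : ℕ).factorial = 120 := by decide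
    rw [Nat.card_eq_fintype_card]
    omega
  have hmul := Subgroup.card_mul_index H
  rw [hcard] at hmul
  have hdvd : H.index ∣ 60 := ⟨Nat.card H, by rw [← hmul, mul_comm]⟩
  have hle : H.index ≤ 60 := Nat.le_of_dvd (by norm_num) hdvd
  have hpos : 0 < H.index := Nat.pos_of_dvd_of_pos hdvd (by norm_num)
  have hcases : H.index = 1 ∨ H.index = 3 ∨ H.index = 5 ∨ H.index = 15 := by
    generalize H.index = k at hH hdvd hle hpos
    interval_cases k <;> first | omega | (exfalso; revert hdvd; decide) | (exfalso; revert hH; decide)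
  rcases hcases with h | h | h | h
  · rw [Subgroup.index_eq_one] at h
    subst h
    exact pronormal_of_normal ⊤
  · exfalso
    have hne : H ≠ ⊤ := by
      intro htop
      rw [htop, Subgroup.index_top] at h
      omega
    have := index_alt_five h5 H hne
    omega
  · exact pronormal_of_prime_index (h ▸ Nat.prime_five)
  · have hc : Nat.card H = 2 ^ 2 := by
      rw [h] at hmul; omega
    exact pronormal_of_sylow (IsPGroup.of_card hc) (by rw [h]; decide)

end Cfsg.Agent.Lib.Helper5.Pron
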